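import Mathlib
import Cfsg.Prelude.Def_HallClasses
import Cfsg.Agent.DicksonPSL2.Orders
import Cfsg.Agent.DicksonPSL2.Exceptional
import Cfsg.Agent.Solvable.Hall

/-!
# Hall `{2, 3}`-subgroups of `PSL(2, q)`

The octahedral group for `q ≡ ± 1 (mod 8)` and the criterion.
-/

set_option autoImplicit false
set_option linter.unusedSectionVars false

namespace CfsgLib.HallPSL

open Matrix CfsgLib.SL2Trace CfsgLib.DicksonPSL2
open scoped MatrixGroups

variable {F : Type*} [Field F] [Fintype F]

/-- An octahedral group. -/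
theorem exists_card_twentyfour (P : QuatPair F) (h2 : IsSquare (2 : F)) :
    ∃ K : Subgroup PSL(2, F), Nat.card K = 24 := by
  obtain ⟨s, hs⟩ := h2
  have htwo := P.two_ne
  have hs0 : s ≠ 0 := fun e => htwo (by rw [hs, e, mul_zero])
  obtain ⟨r, hr⟩ : ∃ r : SL(2, F), r.1 = P.qc (1 / s) (1 / s) 0 0 := by
    refine ⟨⟨P.qc (1 / s) (1 / s) 0 0, ?_⟩, rfl⟩
    rw [P.det_qc]
    field_simp
    linear_combination hs
  obtain ⟨w, hw⟩ := P.exists_omega
  have hrr : r * r = P.i := Subtype.ext (by
    rw [Matrix.SpecialLinearGroup.coe_mul, hr, P.qc_mul, P.i_eq_qc]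
    congr 1 <;> field_simp <;> first | linear_combination hs | linear_combination -hs | ring)
  have hri : r * P.i = P.i * r := by rw [← hrr, mul_assoc]
  have hrj : r * P.j = P.k * r := Subtype.ext (by
    rw [Matrix.SpecialLinearGroup.coe_mul, Matrix.SpecialLinearGroup.coe_mul, hr, P.j_eq_qc, P.k_eq_qc,
      P.qc_mul, P.qc_mul]
    congr 1 <;> ring)
  obtain ⟨w', hw'⟩ : ∃ w' : SL(2, F), w'.1 = P.qc (-1 / 2) (1 / 2) (-1 / 2) (1 / 2) := by
    refine ⟨⟨P.qc (-1 / 2) (1 / 2) (-1 / 2) (1 / 2), ?_⟩, rfl⟩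
    rw [P.det_qc]
    field_simp
    norm_num
  have hrw : r * w = w' * r := Subtype.ext (by
    rw [Matrix.SpecialLinearGroup.coe_mul, Matrix.SpecialLinearGroup.coe_mul, hr, hw, hw', P.qc_mul, P.qc_mul]
    congr 1 <;> ring)
  have hgen : ∀ z ∈ ({proj P.i, proj P.j, proj w} : Set PSL(2, F)), z ∈ P.tetra := fun z hz =>
    Subgroup.subset_closure (by rw [P.tetraSet_eq hw]; exact hz)
  have hI : proj P.i ∈ P.tetra := hgen _ (by simp)
  have hJ : proj P.j ∈ P.tetra := hgen _ (by simp)
  have hW : proj w ∈ P.tetra := hgen _ (by simp)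
  have hK : proj P.k ∈ P.tetra := by
    show proj P.i * proj P.j ∈ P.tetra
    exact mul_mem hI hJ
  have hW' : proj w' ∈ P.tetra := by
    -- `w'` lies in the list of the tetrahedral group
    have e : w' = -(P.j * (w * w) * P.j) := Subtype.ext (by
      rw [Matrix.SpecialLinearGroup.coe_neg, Matrix.SpecialLinearGroup.coe_mul, Matrix.SpecialLinearGroup.coe_mul,
        Matrix.SpecialLinearGroup.coe_mul, hw', hw, P.j_eq_qc, P.qc_mul, P.qc_mul, P.qc_mul, P.neg_qc]
      congr 1 <;> field_simp <;> ring)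
    rw [e, proj_neg]
    exact mul_mem (mul_mem hJ (mul_mem hW hW)) hJ
  have hnorm : Subgroup.zpowers (proj r) ≤ Subgroup.normalizer (P.tetra : Set PSL(2, F)) := by
    rw [Subgroup.zpowers_le, ← conjS_eq_self_iff]
    refine Subgroup.eq_of_le_of_card_ge ?_ (card_conjS _ _).ge
    rw [conjS, QuatPair.tetra, MonoidHom.map_closure, Subgroup.closure_le]
    rintro _ ⟨y, hy, rfl⟩
    rw [P.tetraSet_eq hw] at hy
    simp only [Set.mem_insert_iff, Set.mem_singleton_iff] at hy
    rw [SetLike.mem_coe, MulEquiv.coe_toMonoidHom, MulAut.conj_apply]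
    rcases hy with rfl | rfl | rfl
    · rw [show proj r * proj P.i = proj P.i * proj r from congrArg proj hri, mul_inv_cancel_right]
      exact hI
    · rw [show proj r * proj P.j = proj P.k * proj r from congrArg proj hrj, mul_inv_cancel_right]
      exact hK
    · rw [show proj r * proj w = proj w' * proj r from congrArg proj hrw, mul_inv_cancel_right]
      exact hW'
  have hr2 : proj r * proj r = proj P.i := congrArg proj hrr
  have hord : orderOf (proj r) = 4 := by
    refine orderOf_eq_prime_pow (p := 2) (n := 1) ?_ ?_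
    · rw [pow_one, pow_two, hr2]; exact P.proj_i_ne_one
    · rw [pow_succ, pow_one, pow_mul, pow_two, pow_two, hr2]
      exact QuatPair.proj_sq P.i P.ii
  have hrnot : proj r ∉ P.tetra := by
    intro h
    obtain ⟨e⟩ := P.nonempty_tetra_equiv
    have h1 : orderOf (e ⟨proj r, h⟩) = 4 := by rw [MulEquiv.orderOf_eq, ← Subgroup.orderOf_coe]; exact hord
    rcases alt_four_pow (e ⟨proj r, h⟩) with h2 | h2 <;>
      · have h3 := orderOf_dvd_of_pow_eq_one h2
        rw [h1] at h3
        norm_num at h3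
  refine ⟨P.tetra ⊔ Subgroup.zpowers (proj r), ?_⟩
  have hnsub : (P.tetra.subgroupOf (P.tetra ⊔ Subgroup.zpowers (proj r))).index =
      P.tetra.relIndex (Subgroup.zpowers (proj r)) := by
    set N := Subgroup.normalizer (P.tetra : Set PSL(2, F))
    have hTN : P.tetra ≤ N := Subgroup.le_normalizer
    haveI : (P.tetra.subgroupOf N).Normal := Subgroup.normal_subgroupOf_iff_le_normalizer hTN |>.2 le_rfl
    have h8 := Subgroup.relIndex_sup_left (K := P.tetra.subgroupOf N) (H := (Subgroup.zpowers (proj r)).subgroupOf N)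
    rw [← Subgroup.subgroupOf_sup hTN hnorm, Subgroup.relIndex_subgroupOf (sup_le hTN hnorm),
      Subgroup.relIndex_subgroupOf hnorm] at h8
    exact h8
  have hidx : P.tetra.relIndex (Subgroup.zpowers (proj r)) = 2 := by
    have h4 : Nat.card (Subgroup.zpowers (proj r)) = 4 := by rw [Nat.card_zpowers, hord]
    have hdvd := Subgroup.relIndex_dvd_card P.tetra (Subgroup.zpowers (proj r))
    rw [h4] at hdvd
    have hne1 : P.tetra.relIndex (Subgroup.zpowers (proj r)) ≠ 1 := fun e =>
      hrnot (Subgroup.relIndex_eq_one.1 e (Subgroup.mem_zpowers _))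
    have h5 := Subgroup.card_mul_index (P.tetra.subgroupOf (Subgroup.zpowers (proj r)))
    rw [← Subgroup.relIndex, h4] at h5
    have h6 : 2 ≤ Nat.card (P.tetra.subgroupOf (Subgroup.zpowers (proj r))) := by
      refine Finite.one_lt_card_iff_nontrivial.2 ⟨1, ⟨⟨proj P.i, ?_⟩, hI⟩, fun e => P.proj_i_ne_one ?_⟩
      · rw [← hr2]; exact mul_mem (Subgroup.mem_zpowers _) (Subgroup.mem_zpowers _)
      · exact (congrArg (fun z => ((z : Subgroup.zpowers (proj r)) : PSL(2, F))) (Subtype.ext_iff.1 e)).symm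
    have := Nat.le_of_dvd (by norm_num) hdvd
    interval_cases P.tetra.relIndex (Subgroup.zpowers (proj r)) <;> omega
  have h7 := Subgroup.card_mul_index (P.tetra.subgroupOf (P.tetra ⊔ Subgroup.zpowers (proj r)))
  rw [hnsub, hidx, Nat.card_congr (Subgroup.subgroupOfEquivOfLe le_sup_left).toEquiv, P.card_tetra] at h7
  omega

/-- Hall `{2, 3}`-subgroups by their order. -/
theorem isPiHall_iff_card {G : Type*} [Group G] [Finite G] (H : Subgroup G) :
    Cfsg.IsPiHall ({2, 3} : Set ℕ) H ↔
      Nat.card H = 2 ^ (Nat.card G).factorization 2 * 3 ^ (Nat.card G).factorization 3 := by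
  have hmul := H.card_mul_index
  have hfac : ∀ p : ℕ, (Nat.card G).factorization p = (Nat.card H).factorization p + H.index.factorization p := by
    intro p
    rw [← hmul, Nat.factorization_mul Nat.card_pos.ne' Subgroup.index_ne_zero_of_finite, Finsupp.add_apply]
  constructor
  · rintro ⟨h1, h2⟩
    have e2 : H.index.factorization 2 = 0 := Nat.factorization_eq_zero_of_not_dvd (h2 2 Nat.prime_two (by simp))
    have e3 : H.index.factorization 3 = 0 := Nat.factorization_eq_zero_of_not_dvd (h2 3 Nat.prime_three (by simp))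
    rw [hfac 2, hfac 3, e2, e3, add_zero, add_zero]
    refine Nat.eq_of_factorization_eq Nat.card_pos.ne' (by positivity) fun p => ?_
    rw [Nat.factorization_mul (by positivity) (by positivity), Nat.prime_two.factorization_pow,
      Nat.prime_three.factorization_pow, Finsupp.add_apply]
    by_cases hp2 : p = 2
    · subst hp2; simp
    by_cases hp3 : p = 3
    · subst hp3; simp
    rw [Finsupp.single_eq_of_ne (by omega), Finsupp.single_eq_of_ne (by omega), add_zero]
    by_cases hp : p.Prime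
    · refine Nat.factorization_eq_zero_of_not_dvd fun hd => ?_
      have := h1 p hp hd
      simp at this
      omega
    · exact Nat.factorization_eq_zero_of_not_prime _ hp
  · intro h
    refine ⟨fun p hp hd => ?_, fun p hp hpπ hd => ?_⟩
    · rw [h] at hd
      rcases hp.dvd_mul.1 hd with h' | h'
      · simp [(Nat.prime_dvd_prime_iff_eq hp Nat.prime_two).1 (hp.dvd_of_dvd_pow h')]
      · simp [(Nat.prime_dvd_prime_iff_eq hp Nat.prime_three).1 (hp.dvd_of_dvd_pow h')]
    · have h1 := hfac p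
      have h2 := hp.factorization_pos_of_dvd Subgroup.index_ne_zero_of_finite hd
      rw [h, Nat.factorization_mul (by positivity) (by positivity), Nat.prime_two.factorization_pow,
        Nat.prime_three.factorization_pow, Finsupp.add_apply] at h1
      simp only [Set.mem_insert_iff, Set.mem_singleton_iff] at hpπ
      rcases hpπ with rfl | rfl <;> simp at h1 <;> omega

theorem factorization_two_of_mod {m : ℕ} (h : m % 4 = 2) : m.factorization 2 = 1 := by
  obtain ⟨k, hk⟩ : ∃ k, m = 2 * k := ⟨m / 2, by omega⟩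
  rw [hk, Nat.factorization_mul two_ne_zero (by omega), Finsupp.add_apply, Nat.prime_two.factorization_self,
    Nat.factorization_eq_zero_of_not_dvd (show ¬ 2 ∣ k by omega)]

/-- The arithmetic of `q² - 1` at two and three. -/
theorem valuations {q : ℕ} (hq : Odd q) (hq5 : 5 ≤ q) (h3 : ¬ 3 ∣ q) :
    3 ≤ (q ^ 2 - 1).factorization 2 ∧ 1 ≤ (q ^ 2 - 1).factorization 3 ∧
      (q % 4 = 1 → (q ^ 2 - 1).factorization 2 = (q - 1).factorization 2 + 1) ∧
      (q % 4 = 3 → (q ^ 2 - 1).factorization 2 = (q + 1).factorization 2 + 1) ∧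
      (3 ∣ q - 1 → (q ^ 2 - 1).factorization 3 = (q - 1).factorization 3) ∧
      (3 ∣ q + 1 → (q ^ 2 - 1).factorization 3 = (q + 1).factorization 3) := by
  obtain ⟨k, hk⟩ := hq
  have e : q ^ 2 - 1 = (q - 1) * (q + 1) := by rw [mul_comm, ← Nat.sq_sub_sq, one_pow]
  have he : ∀ s, (q ^ 2 - 1).factorization s = (q - 1).factorization s + (q + 1).factorization s := by
    intro s
    rw [e, Nat.factorization_mul (by omega) (by omega), Finsupp.add_apply]
  have hne : q ^ 2 - 1 ≠ 0 := by rw [e]; exact Nat.mul_ne_zero (by omega) (by omega)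
  refine ⟨?_, ?_, fun h => ?_, fun h => ?_, fun h => ?_, fun h => ?_⟩
  · refine (Nat.prime_two.pow_dvd_iff_le_factorization hne).1 ?_
    rw [e, show q - 1 = 2 * k by omega, show q + 1 = 2 * (k + 1) by omega]
    obtain ⟨j, hj⟩ := (Nat.even_mul_succ_self k).two_dvd
    exact ⟨j, by rw [show 2 * k * (2 * (k + 1)) = 4 * (k * (k + 1)) by ring, hj]; ring⟩
  · refine (Nat.prime_three.pow_dvd_iff_le_factorization hne).1 ?_
    rw [e, pow_one]
    have h31 : 3 ∣ q - 1 ∨ 3 ∣ q + 1 := by
      rcases (show q % 3 = 0 ∨ q % 3 = 1 ∨ q % 3 = 2 by omega) with h | h | h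
      · exact absurd (Nat.dvd_of_mod_eq_zero h) h3
      · exact Or.inl (by omega)
      · exact Or.inr (by omega)
    rcases h31 with h | h
    · exact dvd_mul_of_dvd_left h _
    · exact dvd_mul_of_dvd_right h _
  · rw [he, factorization_two_of_mod (m := q + 1) (by omega)]
  · rw [he, factorization_two_of_mod (m := q - 1) (by omega), add_comm]
  · rw [he, Nat.factorization_eq_zero_of_not_dvd (show ¬ 3 ∣ q + 1 by omega), add_zero]
  · rw [he, Nat.factorization_eq_zero_of_not_dvd (show ¬ 3 ∣ q - 1 by omega), zero_add]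

variable {p : ℕ} [Fact p.Prime] [CharP F p]

theorem facts (hp : 5 ≤ p) :
    Odd (Fintype.card F) ∧ 5 ≤ Fintype.card F ∧ ¬ 3 ∣ Fintype.card F ∧
      Nat.gcd 2 (Fintype.card F - 1) = 2 ∧
      (Nat.card PSL(2, F)).factorization 2 + 1 = (Fintype.card F ^ 2 - 1).factorization 2 ∧
      (Nat.card PSL(2, F)).factorization 3 = (Fintype.card F ^ 2 - 1).factorization 3 := by
  obtain ⟨n, hpp, hn⟩ := FiniteField.card F p
  have hp2 : p % 2 = 1 := (hpp.eq_two_or_odd).resolve_left (by omega)
  have hodd : Odd (Fintype.card F) := hn ▸ (Nat.odd_iff.2 hp2).pow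
  have h5 : 5 ≤ Fintype.card F := hn ▸ hp.trans (Nat.le_self_pow n.pos.ne' p)
  have h3 : ¬ 3 ∣ Fintype.card F := fun h => by
    rw [hn] at h
    have := (Nat.prime_dvd_prime_iff_eq Nat.prime_three hpp).1 (Nat.prime_three.dvd_of_dvd_pow h)
    omega
  have hg : Nat.gcd 2 (Fintype.card F - 1) = 2 := Nat.gcd_eq_left (by rw [Nat.odd_iff] at hodd; omega)
  have hcard := card_PSL_formula F
  rw [hg, mul_assoc, show (Fintype.card F - 1) * (Fintype.card F + 1) = Fintype.card F ^ 2 - 1 by
    rw [mul_comm, ← Nat.sq_sub_sq, one_pow]] at hcard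
  have hne : Fintype.card F ^ 2 - 1 ≠ 0 := by
    have : 5 * 5 ≤ Fintype.card F ^ 2 := by rw [pow_two]; exact Nat.mul_le_mul h5 h5
    omega
  have key := fun s => congrArg (fun z => Nat.factorization z s) hcard
  refine ⟨hodd, h5, h3, hg, ?_, ?_⟩
  · have h := key 2
    simp only [Nat.factorization_mul two_ne_zero Nat.card_pos.ne', Nat.factorization_mul (show Fintype.card F ≠ 0 by omega) hne,
      Finsupp.add_apply] at h
    rw [Nat.prime_two.factorization_self, Nat.factorization_eq_zero_of_not_dvd (show ¬ 2 ∣ Fintype.card F by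
      rw [Nat.odd_iff] at hodd; omega)] at h
    omega
  · have h := key 3
    simp only [Nat.factorization_mul two_ne_zero Nat.card_pos.ne', Nat.factorization_mul (show Fintype.card F ≠ 0 by omega) hne,
      Finsupp.add_apply] at h
    rw [Nat.factorization_eq_zero_of_not_dvd (show ¬ 3 ∣ 2 by norm_num), Nat.factorization_eq_zero_of_not_dvd h3] at h
    omega

theorem isPiHall_iff (hp : 5 ≤ p) (H : Subgroup PSL(2, F)) :
    Cfsg.IsPiHall ({2, 3} : Set ℕ) H ↔
      2 * Nat.card H = 2 ^ (Fintype.card F ^ 2 - 1).factorization 2 * 3 ^ (Fintype.card F ^ 2 - 1).factorization 3 := by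
  obtain ⟨-, -, -, -, e2, e3⟩ := facts (F := F) hp
  rw [isPiHall_iff_card, ← e2, ← e3, pow_succ]
  constructor
  · intro h; rw [h]; ring
  · intro h
    have : 2 * Nat.card H = 2 * (2 ^ (Nat.card PSL(2, F)).factorization 2 * 3 ^ (Nat.card PSL(2, F)).factorization 3) := by
      rw [h]; ring
    omega

/-- A Hall subgroup inside a torus normaliser. -/
theorem exists_in_normalizer (hp : 5 ≤ p) {x : PSL(2, F)} (hx : IsTor x) {m : ℕ}
    (hm : 2 * Nat.card (torus x) = m) (h2 : (Fintype.card F ^ 2 - 1).factorization 2 = m.factorization 2 + 1)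
    (h3 : (Fintype.card F ^ 2 - 1).factorization 3 = m.factorization 3) :
    ∃ H : Subgroup PSL(2, F), Cfsg.IsPiHall ({2, 3} : Set ℕ) H := by
  obtain ⟨hc, ⟨e⟩⟩ := card_normalizer_torus hx
  set N := Subgroup.normalizer (torus x : Set PSL(2, F))
  haveI := isSolvable_dihedral (Nat.card (torus x))
  haveI : Group.IsSolvable N := solvable_of_solvable_injective (f := e.toMonoidHom) e.injective
  obtain ⟨H, hH⟩ := CfsgLib.Solvable.exists_isPiHall ({2, 3} : Set ℕ) N
  refine ⟨H.map N.subtype, (isPiHall_iff hp _).2 ?_⟩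
  rw [Subgroup.card_map_of_injective N.subtype_injective, (isPiHall_iff_card H).1 hH, hc, hm, h2, h3, pow_succ]
  ring

theorem exists_hall_iff (hp : 5 ≤ p) :
    (∃ H : Subgroup PSL(2, F), Cfsg.IsPiHall ({2, 3} : Set ℕ) H) ↔
      (3 ∣ Fintype.card F - 1 ∧ Fintype.card F % 4 = 1) ∨ (3 ∣ Fintype.card F + 1 ∧ Fintype.card F % 4 = 3) ∨
        2 ^ (Fintype.card F ^ 2 - 1).factorization 2 * 3 ^ (Fintype.card F ^ 2 - 1).factorization 3 = 24 ∨
        2 ^ (Fintype.card F ^ 2 - 1).factorization 2 * 3 ^ (Fintype.card F ^ 2 - 1).factorization 3 = 48 := by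
  obtain ⟨hodd, h5, h3, hg, e2, e3⟩ := facts (F := F) hp
  obtain ⟨va, vb, v1, v3, w1, w3⟩ := valuations hodd h5 h3
  set q := Fintype.card F with hq
  constructor
  · rintro ⟨H, hH⟩
    have hcard := (isPiHall_iff hp H).1 hH
    rw [← hq] at hcard
    have hpH : ¬ p ∣ Nat.card H := fun h => by
      have := hH.1 p Fact.out h
      simp at this
      omega
    have h12 : 12 ∣ Nat.card H := by
      obtain ⟨a, ha⟩ : (2 : ℕ) ^ 3 ∣ 2 ^ (q ^ 2 - 1).factorization 2 := pow_dvd_pow 2 va
      obtain ⟨b, hb⟩ : (3 : ℕ) ^ 1 ∣ 3 ^ (q ^ 2 - 1).factorization 3 := pow_dvd_pow 3 vb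
      rw [ha, hb] at hcard
      exact ⟨a * b, Nat.eq_of_mul_eq_mul_left two_pos (hcard.trans (by ring))⟩
    rcases subgroup_cases_sharp p H with h | h | ⟨h, -, -⟩ | ⟨h, -, -⟩ | ⟨h, -, -⟩ | h
    · exfalso
      have h1 : 2 * Nat.card H ∣ q * (q - 1) := by
        rw [hq, ← card_BP F, hg]; exact Nat.mul_dvd_mul_left 2 h.card_dvd
      rw [hcard] at h1
      have h2 : 2 ^ (q ^ 2 - 1).factorization 2 ∣ q - 1 :=
        (Nat.Coprime.pow_left _ ((Nat.prime_two.coprime_iff_not_dvd).2 (by rw [Nat.odd_iff] at hodd; omega))).dvd_of_dvd_mul_left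
          ((dvd_mul_right _ _).trans h1)
      have h4 := (Nat.prime_two.pow_dvd_iff_le_factorization (show q - 1 ≠ 0 by omega)).1 h2
      rcases (show q % 4 = 1 ∨ q % 4 = 3 by rw [Nat.odd_iff] at hodd; omega) with hm | hm
      · have := v1 hm; omega
      · have := v3 hm
        have h7 := (Nat.prime_two.pow_dvd_iff_le_factorization (k := 1) (show q + 1 ≠ 0 by omega)).1
          (by rw [pow_one]; omega)
        have h8 : (q - 1).factorization 2 = 1 := factorization_two_of_mod (by omega)
        omega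
    · obtain ⟨x, hx, hle⟩ := h
      have h1 := Subgroup.card_dvd_of_le hle
      rw [(card_normalizer_torus hx).1] at h1
      have h4 := h12.trans h1
      rcases card_torus hx with e | e <;> rw [hg, ← hq] at e <;> rw [e] at h4
      · exact Or.inl ⟨(show 3 ∣ 12 by norm_num).trans h4, by omega⟩
      · exact Or.inr (Or.inl ⟨(show 3 ∣ 12 by norm_num).trans h4, by omega⟩)
    · exact Or.inr (Or.inr (Or.inl (by rw [← hcard, h])))
    · exact Or.inr (Or.inr (Or.inr (by rw [← hcard, h])))
    · exfalso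
      have := hH.1 5 (by norm_num) (by rw [h]; norm_num)
      simp at this
    · exfalso
      obtain ⟨K, _, _, m, hm, hiso⟩ := h.data
      obtain ⟨n, hpp, hn⟩ := FiniteField.card F p
      have hpK : p ∣ Fintype.card K := by
        refine hpp.dvd_of_dvd_pow (n := m) ?_
        rw [hm, hn]
        exact dvd_pow_self p n.pos.ne'
      have hKc := card_PSL_formula K
      have hd : p ∣ Nat.gcd 2 (Fintype.card K - 1) * Nat.card PSL(2, K) := by
        rw [hKc, mul_assoc]; exact dvd_mul_of_dvd_left hpK _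
      have hpP : p ∣ Nat.card PSL(2, K) := by
        rcases hpp.dvd_mul.1 hd with hd' | hd'
        · have := Nat.le_of_dvd two_pos (hd'.trans (Nat.gcd_dvd_left _ _))
          omega
        · exact hd'
      rcases hiso with ⟨⟨f⟩⟩ | ⟨⟨f⟩⟩
      · exact hpH (Nat.card_congr f.toEquiv ▸ hpP)
      · exact hpH (Nat.card_congr f.toEquiv ▸ hpP.trans
          (Subgroup.card_dvd_of_injective _ ProjectiveSpecialLinearGroup.toPGL_injective))
  · rintro (⟨h, hm⟩ | ⟨h, hm⟩ | h | h)
    · obtain ⟨x, hx, -, hT⟩ := exists_torus_minus F (by omega)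
      rw [hg] at hT
      exact exists_in_normalizer hp hx hT (v1 hm) (w1 h)
    · obtain ⟨x, hx, hT, -⟩ := exists_torus_plus F
      rw [hg] at hT
      exact exists_in_normalizer hp hx hT (v3 hm) (w3 h)
    · obtain ⟨P⟩ := exists_quatPair (F := F) hodd
      exact ⟨P.tetra, (isPiHall_iff hp _).2 (by rw [P.card_tetra, ← hq, h])⟩
    · obtain ⟨P⟩ := exists_quatPair (F := F) hodd
      have h16 : 2 ^ 4 ∣ q ^ 2 - 1 := by
        have hne : q ^ 2 - 1 ≠ 0 := by
          have : 5 * 5 ≤ q ^ 2 := by rw [pow_two]; exact Nat.mul_le_mul h5 h5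
          omega
        have hv : 4 ≤ (q ^ 2 - 1).factorization 2 := by
          by_contra hlt
          have : (q ^ 2 - 1).factorization 2 = 3 := by omega
          rw [this] at h
          have h6 : 3 ^ (q ^ 2 - 1).factorization 3 = 6 := by omega
          have h7 : (3 ^ (q ^ 2 - 1).factorization 3) % 2 = 1 := Nat.odd_iff.1 ((Nat.odd_iff.2 rfl).pow)
          omega
        exact (Nat.prime_two.pow_dvd_iff_le_factorization hne).2 hv
      have hsq : IsSquare (2 : F) := by
        rw [FiniteField.isSquare_two_iff, ← hq]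
        have e : ∀ r, r < 8 → (r * r) % 16 = 1 → r = 1 ∨ r = 7 := by decide
        have h1 : q ^ 2 % 16 = 1 := by
          have : 1 ≤ q ^ 2 := Nat.one_le_pow _ _ (by omega)
          omega
        have h8 : (q % 8) * (q % 8) % 16 = 1 := by
          obtain ⟨t, ht⟩ : ∃ t, q = 8 * t + q % 8 := ⟨q / 8, by omega⟩
          rw [ht, show (8 * t + q % 8) ^ 2 = 16 * (4 * t ^ 2 + t * (q % 8)) + (q % 8) * (q % 8) by ring,
            Nat.mul_add_mod] at h1
          exact h1
        have := e _ (Nat.mod_lt _ (by norm_num)) h8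
        omega
      obtain ⟨K, hK⟩ := exists_card_twentyfour P hsq
      exact ⟨K, (isPiHall_iff hp _).2 (by rw [hK, ← hq, h])⟩

end CfsgLib.HallPSL
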